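import Groth.Prelude.Def_W4c5suslinpi1abAdj
import Mathlib.CategoryTheory.Adjunction.Basic

/-!
# Exterior products and adjoint products
-/

set_option autoImplicit false
set_option maxHeartbeats 400000
universe v u

open CategoryTheory MonoidalCategory Functor.LaxMonoidal Functor.OplaxMonoidal W4c5suslinpi1ab

noncomputable section

namespace Groth.Agent.SusAdj29

section Two
variable {C : Type u} [Category.{v} C] [MonoidalCategory C] {D : Type u} [Category.{v} D] [MonoidalCategory D]
  {L : C ⥤ D} {R : D ⥤ C} (adj : L ⊣ R) [R.LaxMonoidal]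

theorem projR_natural {A A' : D} (a : A ⟶ A') {B B' : C} (b : B ⟶ B') :
    (R.map a ⊗ₘ b) ≫ projR adj A' B' = projR adj A B ≫ R.map (a ⊗ₘ L.map b) := by
  have hu := adj.unit.naturality b
  simp only [Functor.id_obj, Functor.id_map, Functor.comp_obj, Functor.comp_map] at hu
  simp only [projR, Category.assoc, ← μ_natural, ← id_tensorHom, tensorHom_comp_tensorHom_assoc, Category.comp_id,
    Category.id_comp, hu]

theorem projL_natural {A A' : C} (a : A ⟶ A') {B B' : D} (b : B ⟶ B') :
    (a ⊗ₘ R.map b) ≫ projL adj A' B' = projL adj A B ≫ R.map (L.map a ⊗ₘ b) := by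
  have hu := adj.unit.naturality a
  simp only [Functor.id_obj, Functor.id_map, Functor.comp_obj, Functor.comp_map] at hu
  simp only [projL, Category.assoc, ← μ_natural, ← tensorHom_id, tensorHom_comp_tensorHom_assoc, Category.comp_id,
    Category.id_comp, hu]

variable [L.OplaxMonoidal] [adj.IsMonoidal]

theorem map_projR_counit (A : D) (B : C) :
    L.map (projR adj A B) ≫ adj.counit.app (A ⊗ L.obj B) = δ L (R.obj A) B ≫ (adj.counit.app A ▷ L.obj B) := by
  have h1 := δ_natural_right L (R.obj A) (adj.unit.app B)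
  simp only [Functor.id_obj, Functor.comp_obj] at h1 ⊢
  rw [projR, Functor.map_comp, Category.assoc, Adjunction.map_μ_comp_counit_app_tensor, reassoc_of% h1.symm,
    ← id_tensorHom, tensorHom_comp_tensorHom, Category.id_comp, adj.left_triangle_components, tensorHom_id]

theorem map_projL_counit (A : C) (B : D) :
    L.map (projL adj A B) ≫ adj.counit.app (L.obj A ⊗ B) = δ L A (R.obj B) ≫ (L.obj A ◁ adj.counit.app B) := by
  have h1 := δ_natural_left L (adj.unit.app A) (R.obj B)
  simp only [Functor.id_obj, Functor.comp_obj] at h1 ⊢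
  rw [projL, Functor.map_comp, Category.assoc, Adjunction.map_μ_comp_counit_app_tensor, reassoc_of% h1.symm,
    ← tensorHom_id, tensorHom_comp_tensorHom, Category.id_comp, adj.left_triangle_components, id_tensorHom]

end Two

section Cup
variable {C : Type u} [Category.{v} C] [MonoidalCategory C] {D : Type u} [Category.{v} D] [MonoidalCategory D]
  {L : C ⥤ D} {R : D ⥤ C} {S : C ⥤ D} (adj : L ⊣ R) (adj' : R ⊣ S) [R.LaxMonoidal]
  [∀ (A : D) (B : C), IsIso (projR adj A B)]

theorem map_cupShriek_counit (A B : C) :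
    R.map (cupShriek adj adj' A B) ≫ adj'.counit.app (A ⊗ B) =
      inv (projR adj (S.obj A) B) ≫ (adj'.counit.app A ▷ B) := by
  exact (adj'.homEquiv_counit _ _ _).symm.trans (Equiv.symm_apply_apply _ _)

theorem cupShriek_natural (A : C) {B B' : C} (b : B ⟶ B') :
    cupShriek adj adj' A B ≫ S.map (A ◁ b) = (S.obj A ◁ L.map b) ≫ cupShriek adj adj' A B' := by
  have h := projR_natural adj (𝟙 (S.obj A)) b
  rw [CategoryTheory.Functor.map_id, id_tensorHom, id_tensorHom] at h
  simp only [cupShriek, ← Adjunction.homEquiv_naturality_right, ← Adjunction.homEquiv_naturality_left]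
  congr 1
  simp only [Category.assoc, Functor.id_obj]
  rw [← whisker_exchange, IsIso.inv_comp_eq, ← reassoc_of% h, IsIso.hom_inv_id_assoc]
  rfl

end Cup

variable {S₀ : Type u} [Category.{v} S₀] [MonoidalCategory S₀]
    {Y₁ : Type u} [Category.{v} Y₁] [MonoidalCategory Y₁]
    {Y₂ : Type u} [Category.{v} Y₂] [MonoidalCategory Y₂]
    {X : Type u} [Category.{v} X] [MonoidalCategory X]
    {fL : S₀ ⥤ Y₁} {fR : Y₁ ⥤ S₀} (adjf : fL ⊣ fR) [fR.LaxMonoidal] {gR : Y₂ ⥤ S₀}
    {pL : Y₁ ⥤ X} {pR : X ⥤ Y₁} (adjp : pL ⊣ pR) [pR.LaxMonoidal]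
    {qL : Y₂ ⥤ X} {qR : X ⥤ Y₂} (adjq : qL ⊣ qR) (ν : qR ⋙ gR ⟶ pR ⋙ fR)

theorem extProd_natural {A A' : Y₁} (a : A ⟶ A') {B B' : Y₂} (b : B ⟶ B') :
    (fR.map a ⊗ₘ gR.map b) ≫ extProd adjf adjp adjq ν A' B' =
      extProd adjf adjp adjq ν A B ≫ fR.map (pR.map (pL.map a ⊗ₘ qL.map b)) := by
  have h1 := projR_natural adjf a (gR.map b)
  have h2 := projL_natural adjp a (qL.map b)
  have hb := (bcMor adjf adjq ν).naturality b
  simp only [Functor.comp_map] at hb
  simp only [extProd, Category.assoc, reassoc_of% h1, ← Functor.map_comp]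
  congr 2
  simp only [Category.assoc, ← h2, ← id_tensorHom, tensorHom_comp_tensorHom_assoc, Category.comp_id,
    Category.id_comp, hb]

theorem homEquiv_symm_extProd [fL.OplaxMonoidal] [adjf.IsMonoidal] [pL.OplaxMonoidal] [adjp.IsMonoidal]
    (A : Y₁) (B : Y₂) :
    ((adjf.comp adjp).homEquiv _ _).symm (extProd adjf adjp adjq ν A B) =
      δ (fL ⋙ pL) (fR.obj A) (gR.obj B) ≫
        (pL.map (adjf.counit.app A) ⊗ₘ (pL.map ((bcMor adjf adjq ν).app B) ≫ adjp.counit.app (qL.obj B))) := by
  have e : fL.map (extProd adjf adjp adjq ν A B) ≫ adjf.counit.app _ =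
      δ fL (fR.obj A) (gR.obj B) ≫ (adjf.counit.app A ▷ fL.obj (gR.obj B)) ≫
        (A ◁ (bcMor adjf adjq ν).app B) ≫ projL adjp A (qL.obj B) := by
    simp only [extProd, Functor.map_comp, Category.assoc, Functor.id_obj, Functor.comp_obj,
      Adjunction.counit_naturality, Adjunction.counit_naturality_assoc]
    rw [reassoc_of% (map_projR_counit adjf A (gR.obj B))]
  rw [Adjunction.homEquiv_counit, Adjunction.comp_counit_app, Functor.comp_map, ← Category.assoc,
    ← Functor.map_comp, e]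
  simp only [Functor.map_comp, Category.assoc, map_projL_counit, Functor.OplaxMonoidal.comp_δ]
  have n1 := δ_natural_right pL A ((bcMor adjf adjq ν).app B)
  have n2 := δ_natural_left pL (adjf.counit.app A) (fL.obj (gR.obj B))
  simp only [Functor.id_obj, Functor.comp_obj] at n1 n2 ⊢
  rw [reassoc_of% n1.symm, reassoc_of% n2.symm]
  simp only [← id_tensorHom, ← tensorHom_id, tensorHom_comp_tensorHom, Category.comp_id, Category.id_comp,
    Functor.comp_obj]

variable {fS : S₀ ⥤ Y₁} (adjf' : fR ⊣ fS) {gS : S₀ ⥤ Y₂} (adjg' : gR ⊣ gS)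
    {pS : Y₁ ⥤ X} (adjp' : pR ⊣ pS)
    [∀ (A : Y₁) (B : S₀), IsIso (projR adjf A B)]
    [∀ (A : Y₁) (B : X), IsIso (projL adjp A B)]
    [∀ B : Y₂, IsIso ((bcMor adjf adjq ν).app B)]

theorem map_prodShriek_counit (A B : S₀) :
    pR.map (prodShriek adjf adjf' adjg' adjp adjp' adjq ν A B) ≫ adjp'.counit.app (fS.obj (A ⊗ B)) =
      inv (projL adjp (fS.obj A) (qL.obj (gS.obj B))) ≫ (fS.obj A ◁ inv ((bcMor adjf adjq ν).app (gS.obj B))) ≫
        cupShriek adjf adjf' A (gR.obj (gS.obj B)) ≫ fS.map (A ◁ adjg'.counit.app B) := by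
  exact (adjp'.homEquiv_counit _ _ _).symm.trans (Equiv.symm_apply_apply _ _)

theorem extProd_prodShriek (A B : S₀) :
    extProd adjf adjp adjq ν (fS.obj A) (gS.obj B) ≫
      fR.map (pR.map (prodShriek adjf adjf' adjg' adjp adjp' adjq ν A B)) ≫
        fR.map (adjp'.counit.app (fS.obj (A ⊗ B))) =
      (fR.obj (fS.obj A) ◁ adjg'.counit.app B) ≫ projR adjf (fS.obj A) B ≫
        fR.map (cupShriek adjf adjf' A B) := by
  have h := projR_natural adjf (𝟙 (fS.obj A)) (adjg'.counit.app B)
  rw [CategoryTheory.Functor.map_id, id_tensorHom, id_tensorHom] at h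
  simp only [Functor.id_obj, Functor.comp_obj] at h
  rw [← Functor.map_comp fR, map_prodShriek_counit, extProd, Category.assoc, Category.assoc,
    ← Functor.map_comp fR, ← Functor.map_comp fR, IsIso.hom_inv_id_assoc, whiskerLeft_hom_inv'_assoc,
    cupShriek_natural, Functor.map_comp, ← Category.assoc, ← h, Category.assoc]
  rfl

theorem extProd_homEquiv_symm (A B : S₀) :
    extProd adjf adjp adjq ν (fS.obj A) (gS.obj B) ≫
      ((adjp'.comp adjf').homEquiv _ _).symm (prodShriek adjf adjf' adjg' adjp adjp' adjq ν A B) =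
      (adjf'.counit.app A ⊗ₘ adjg'.counit.app B) := by
  rw [Adjunction.homEquiv_counit, Adjunction.comp_counit_app, Functor.comp_map]
  rw [← Category.assoc (fR.map (pR.map _)), ← Category.assoc, extProd_prodShriek]
  simp only [Category.assoc, map_cupShriek_counit, IsIso.hom_inv_id_assoc, Functor.id_obj]
  exact (tensorHom_def' _ _).symm

theorem isIso_extProd (A : Y₁) (B : Y₂) : IsIso (extProd adjf adjp adjq ν A B) := by
  unfold extProd; infer_instance

theorem compatible_iff (A B : S₀) (A' : Y₁) (B' : Y₂) (C' : X)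
    (trA : A' ⟶ fS.obj A) (trB : B' ⟶ gS.obj B) (trC : C' ⟶ pS.obj (fS.obj (A ⊗ B)))
    (m : pL.obj A' ⊗ qL.obj B' ⟶ C') :
    ((pL.map trA ⊗ₘ qL.map trB) ≫ prodShriek adjf adjf' adjg' adjp adjp' adjq ν A B = m ≫ trC) ↔
      (((adjf'.homEquiv _ _).symm trA ⊗ₘ (adjg'.homEquiv _ _).symm trB) =
        extProd adjf adjp adjq ν A' B' ≫ fR.map (pR.map m) ≫
          ((adjp'.comp adjf').homEquiv _ _).symm trC) := by
  have key : ((adjf'.homEquiv _ _).symm trA ⊗ₘ (adjg'.homEquiv _ _).symm trB) =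
      extProd adjf adjp adjq ν A' B' ≫
        ((adjp'.comp adjf').homEquiv _ _).symm ((pL.map trA ⊗ₘ qL.map trB) ≫
          prodShriek adjf adjf' adjg' adjp adjp' adjq ν A B) := by
    rw [Adjunction.homEquiv_naturality_left_symm, Functor.comp_map, ← Category.assoc, ← extProd_natural,
      Category.assoc, extProd_homEquiv_symm, tensorHom_comp_tensorHom, Adjunction.homEquiv_counit,
      Adjunction.homEquiv_counit]
  have key2 : fR.map (pR.map m) ≫ ((adjp'.comp adjf').homEquiv _ _).symm trC =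
      ((adjp'.comp adjf').homEquiv _ _).symm (m ≫ trC) := by
    rw [Adjunction.homEquiv_naturality_left_symm]; rfl
  haveI := isIso_extProd adjf adjp adjq ν A' B'
  rw [key, key2, cancel_epi, Equiv.apply_eq_iff_eq]

end Groth.Agent.SusAdj29
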